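import Groth.Agent.Lib.LieS.Points

/-!
# The bracket of the Lie algebra of a group scheme

`exists_bracket`, `bracket_unique`, bilinearity, alternation and the Jacobi identity of the bracket
defined through the iterated dual numbers, and `exists_model`: `Lie(G/S)(T)` is a Lie algebra.
-/

universe u

set_option linter.unusedSimpArgs false

noncomputable section

open CategoryTheory MonoidalCategory CartesianMonoidalCategory MonObj GrpObj AlgebraicGeometry

namespace Groth.Agent.Lib.LieS.Bracket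

open Groth.Agent.Lib.NilExt.Descend Groth.Agent.Lib.LieS.Points

section D2

variable (B : Type u) [CommRing B]

local notation "D₂" => _root_.LieS.D2 B

/-- `ε` in `B[ε][ε']`. -/
def e₁ : D₂ := algebraMap (DualNumber B) (_root_.LieS.D2 B) DualNumber.eps

/-- `ε'` in `B[ε][ε']`. -/
def e₂ : D₂ := DualNumber.eps

theorem e₁_sq : e₁ B * e₁ B = 0 := by
  simp only [e₁, ← map_mul, _root_.LieS.eps_sq, map_zero]

theorem e₂_sq : e₂ B * e₂ B = 0 := _root_.LieS.eps_sq _

theorem e₂_mul_e₁ : e₂ B * e₁ B = e₁ B * e₂ B := _root_.mul_comm (G := D₂) _ _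

theorem e₂_mul_e₁₂ : e₂ B * (e₁ B * e₂ B) = 0 := by
  ext <;> simp [e₁, e₂, TrivSqZeroExt.algebraMap_eq_inl']

theorem mul_sq {C : Type u} [CommRing C] {c d : C} (hc : c * c = 0) : c * d * (c * d) = 0 := by
  rw [_root_.mul_mul_mul_comm, hc, zero_mul]

theorem toD2_apply (b : B) : _root_.LieS.toD2 B b = TrivSqZeroExt.inl (TrivSqZeroExt.inl b) := by
  simp [TrivSqZeroExt.algebraMap_eq_inl']

theorem mulHom_apply (x : DualNumber B) :
    _root_.LieS.mulHom B x = _root_.LieS.dualHom (_root_.LieS.toD2 B) (e₁ B * e₂ B)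
      (mul_sq (C := _root_.LieS.D2 B) (e₁_sq B)) x := rfl

/-- `B[ε][ε'] → B`. -/
def aug₂ : D₂ →+* B :=
  (TrivSqZeroExt.fstHom B B B).toRingHom.comp
    (TrivSqZeroExt.fstHom (DualNumber B) (DualNumber B) (DualNumber B)).toRingHom

theorem isNilpotent_of_aug₂ (x : D₂) (hx : aug₂ B x = 0) : IsNilpotent x := by
  refine ⟨4, ?_⟩
  have hx' : x.fst.fst = 0 := hx
  have h2 : x.fst * x.fst = 0 := by ext <;> simp [hx']
  calc x ^ 4 = (x * x) * (x * x) := by ring
    _ = 0 := by ext : 1 <;> simp [h2]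

theorem isHomeomorph_aug₂ :
    IsHomeomorph (PrimeSpectrum.comap (R := D₂) (S := B) (aug₂ B)) :=
  isHomeomorph_of_surjective (A := D₂) (B := B) (aug₂ B)
    (fun b => ⟨TrivSqZeroExt.inl (TrivSqZeroExt.inl b), rfl⟩) (isNilpotent_of_aug₂ B)

/-- `ε' ↦ 0`. -/
def keep₁ : D₂ →+* DualNumber B :=
  (TrivSqZeroExt.fstHom (DualNumber B) (DualNumber B) (DualNumber B)).toRingHom

/-- `ε ↦ 0`, `ε' ↦ ε`. -/
def keep₂ : D₂ →+* DualNumber B :=
  _root_.LieS.dualHom ((algebraMap B (DualNumber B)).comp (TrivSqZeroExt.fstHom B B B).toRingHom)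
    DualNumber.eps (_root_.LieS.eps_sq B)

theorem keep₁_comp : (keep₁ B).comp (_root_.LieS.toD2 B) = algebraMap B (DualNumber B) :=
  RingHom.ext fun b => by simp [keep₁, TrivSqZeroExt.algebraMap_eq_inl']

theorem keep₂_comp : (keep₂ B).comp (_root_.LieS.toD2 B) = algebraMap B (DualNumber B) :=
  RingHom.ext fun b => by simp [keep₂, TrivSqZeroExt.algebraMap_eq_inl']

theorem aug₂_comp : (aug₂ B).comp (_root_.LieS.toD2 B) = RingHom.id B :=
  RingHom.ext fun b => by simp [aug₂, TrivSqZeroExt.algebraMap_eq_inl']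

theorem const_comp :
    ((algebraMap B (DualNumber B)).comp (aug₂ B)).comp (_root_.LieS.toD2 B) =
      algebraMap B (DualNumber B) := by
  rw [RingHom.comp_assoc, aug₂_comp, RingHom.comp_id]

theorem mulHom_injective : Function.Injective (_root_.LieS.mulHom B) := by
  intro x y h
  have h1 := congrArg (fun z => z.fst.fst) h
  have h2 := congrArg (fun z => z.snd.snd) h
  simp [mulHom_apply, e₁, e₂, TrivSqZeroExt.algebraMap_eq_inl'] at h1 h2
  ext <;> assumption

theorem isHomeomorph_mulHom : IsHomeomorph (PrimeSpectrum.comap (R := DualNumber B) (S := _root_.LieS.D2 B) (_root_.LieS.mulHom B)) := by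
  have : (aug₂ B).comp (_root_.LieS.mulHom B) = (TrivSqZeroExt.fstHom B B B).toRingHom :=
    RingHom.ext fun x => by simp [aug₂, mulHom_apply, e₁, e₂, TrivSqZeroExt.algebraMap_eq_inl']
  refine isHomeomorph_of_comp (A := DualNumber B) (B := D₂) (C := B) (_root_.LieS.mulHom B)
    (aug₂ B) (isHomeomorph_aug₂ B) ?_
  exact Eq.subst (motive := fun r : DualNumber B →+* B =>
    IsHomeomorph (PrimeSpectrum.comap r)) this.symm (isHomeomorph_fstHom B)

theorem eq_zero_of_mul_e₁₂ (b : B) (h : _root_.LieS.toD2 B b * (e₁ B * e₂ B) = 0) : b = 0 := by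
  simpa [e₁, e₂, TrivSqZeroExt.algebraMap_eq_inl'] using congrArg (fun z => z.snd.snd) h

theorem aug₂_e₁₂ : aug₂ B (e₁ B * e₂ B) = 0 := by simp [aug₂, e₂]

end D2

section Main

variable {S : Scheme.{u}} {B : Type u} [CommRing B] (f : Spec (CommRingCat.of B) ⟶ S)
variable {G : Over S} [GrpObj G]

/-- The value of a Lie algebra element at `(h, c)`. -/
def ev {C : Type u} [CommRing C] (h : B →+* C) (c : C) (hc : c * c = 0) :
    _root_.LieS.Lie G B f →* (P f h ⟶ G) where
  toFun v := evMap f h c hc ≫ v.1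
  map_one' := MonObj.comp_one _
  map_mul' v w := MonObj.comp_mul _ _ _

theorem ev_apply {C : Type u} [CommRing C] (h : B →+* C) (c : C) (hc : c * c = 0)
    (v : _root_.LieS.Lie G B f) : ev f h c hc v = evMap f h c hc ≫ v.1 := rfl

variable {f}

theorem mem_eq (v : _root_.LieS.Lie G B f) : _root_.LieS.zeroSec B f ≫ v.1 = 1 :=
  (_root_.LieS.mem_Lie_iff G B f v.1).1 v.2

theorem ev_congr {C : Type u} [CommRing C] (h : B →+* C) {c c' : C} (hc : c * c = 0)
    (hc' : c' * c' = 0) (e : c = c') (v : _root_.LieS.Lie G B f) :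
    ev f h c hc v = ev f h c' hc' v := by subst e; rfl

theorem cmap_ev {C C' : Type u} [CommRing C] [CommRing C'] {h : B →+* C} {h' : B →+* C'}
    (g : C →+* C') (hg : g.comp h = h') (c : C) (hc : c * c = 0) (c' : C') (hc' : c' * c' = 0)
    (e : g c = c') (v : _root_.LieS.Lie G B f) :
    cmap f g hg ≫ ev f h c hc v = ev f h' c' hc' v := by
  rw [ev_apply, ev_apply, ← Category.assoc, cmap_evMap f g hg c hc c' hc' e]

theorem ev_eq_one {C : Type u} [CommRing C] (h : B →+* C) (c : C) (hc : c * c = 0) (e : c = 0)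
    (v : _root_.LieS.Lie G B f) : ev f h c hc v = 1 :=
  Points.ev_zero (mem_eq v) h c hc e

theorem ev_eps (v : _root_.LieS.Lie G B f) :
    ev f (algebraMap B (DualNumber B)) DualNumber.eps (_root_.LieS.eps_sq B) v = v.1 := by
  rw [ev_apply, evMap_eps]
  exact Category.id_comp _

theorem ev_smul {C : Type u} [CommRing C] (h : B →+* C) (c : C) (hc : c * c = 0) (b : B)
    (v : _root_.LieS.Lie G B f) :
    ev f h c hc (b • v) =
      ev f h (h b * c) (by rw [_root_.mul_mul_mul_comm, hc, mul_zero]) v := by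
  rw [ev_apply, ev_apply, _root_.LieS.smul_val, ← Category.assoc]
  congr 1
  ext
  change Spec.map _ ≫ Spec.map _ = Spec.map _
  rw [_root_.LieS.specMap_comp]
  congr 2
  exact RingHom.ext fun x => by
    simp [_root_.LieS.scaleHom, TrivSqZeroExt.algebraMap_eq_inl', _root_.mul_assoc]

theorem ev_commute {C : Type u} [CommRing C] (h : B →+* C) (c d : C) (hc : c * c = 0)
    (hd : d * d = 0) (hcd : c * d = 0) (v w : _root_.LieS.Lie G B f) :
    Commute (ev f h c hc v) (ev f h d hd w) :=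
  Points.ev_comm (mem_eq v) (mem_eq w) h c d hc hd hcd

theorem lie_commute (v w : _root_.LieS.Lie G B f) : v * w = w * v := by
  apply Subtype.ext
  have h := (ev_commute (algebraMap B (DualNumber B)) _ _ (_root_.LieS.eps_sq B)
    (_root_.LieS.eps_sq B) (_root_.LieS.eps_sq B) v w).eq
  rwa [ev_eps, ev_eps] at h

theorem add_smul' (b b' : B) (v : _root_.LieS.Lie G B f) : (b + b') • v = b • v * b' • v := by
  apply Subtype.ext
  change _ = (b • v).1 * (b' • v).1
  rw [← ev_eps ((b + b') • v), ← ev_eps (b • v), ← ev_eps (b' • v), ev_smul, ev_smul, ev_smul]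
  have hz : ∀ a a' : DualNumber B, a * DualNumber.eps * (a' * DualNumber.eps) = 0 := fun a a' => by
    rw [_root_.mul_mul_mul_comm, _root_.LieS.eps_sq, mul_zero]
  rw [ev_congr (c' := algebraMap B (DualNumber B) b * DualNumber.eps +
      algebraMap B (DualNumber B) b' * DualNumber.eps) _ _
      (by rw [← add_mul, hz]) (by rw [map_add, add_mul])]
  exact Points.ev_add (mem_eq v) _ _ _ _ _ (hz _ _) _

theorem smul_mul' (b : B) (v w : _root_.LieS.Lie G B f) : b • (v * w) = b • v * b • w := by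
  apply Subtype.ext
  exact MonObj.comp_mul (_root_.LieS.scale B f b) v.1 w.1

theorem one_smul' (v : _root_.LieS.Lie G B f) : (1 : B) • v = v := by
  apply Subtype.ext
  rw [← ev_eps ((1 : B) • v), ev_smul, ev_congr _ _ (_root_.LieS.eps_sq B)
    (by rw [map_one, _root_.one_mul]), ev_eps]

theorem zero_smul' (v : _root_.LieS.Lie G B f) : (0 : B) • v = 1 := by
  apply Subtype.ext
  change _ = 1
  rw [← ev_eps ((0 : B) • v), ev_smul]
  exact ev_eq_one _ _ _ (by rw [map_zero, zero_mul]) v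

theorem mul_smul' (b b' : B) (v : _root_.LieS.Lie G B f) : (b * b') • v = b • b' • v := by
  apply Subtype.ext
  rw [← ev_eps ((b * b') • v), ← ev_eps (b • b' • v), ev_smul, ev_smul, ev_smul]
  apply ev_congr
  rw [map_mul]; ring

theorem kapG_aux (f : Spec (CommRingCat.of B) ⟶ S) {A : Type u} [CommRing A] (a : B →+* A)
    (g : Spec (CommRingCat.of A) ⟶ S) (hg : g = Spec.map (CommRingCat.ofHom a) ≫ f) :
    𝟙 _ ≫ (_root_.LieS.dpt A g).hom =
      Spec.map (CommRingCat.ofHom ((algebraMap A (DualNumber A)).comp a)) ≫ f := by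
  subst hg
  refine (Category.id_comp _).trans ?_
  rw [← _root_.LieS.specMap_comp, Category.assoc]
  rfl

/-- The identity of `Spec A[ε]` between two presentations over `S`. -/
def kapG (f : Spec (CommRingCat.of B) ⟶ S) {A : Type u} [CommRing A] (a : B →+* A)
    (g : Spec (CommRingCat.of A) ⟶ S) (hg : g = Spec.map (CommRingCat.ofHom a) ≫ f) :
    P f ((algebraMap A (DualNumber A)).comp a) ⟶ _root_.LieS.dpt A g :=
  Over.homMk (𝟙 _) (kapG_aux f a g hg)

theorem kapG_isIso {A : Type u} [CommRing A] (a : B →+* A)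
    (g : Spec (CommRingCat.of A) ⟶ S) (hg : g = Spec.map (CommRingCat.ofHom a) ≫ f) :
    IsIso (kapG f a g hg) := by
  have : IsIso ((Over.forget S).map (kapG f a g hg)) :=
    (Iso.refl (Spec (CommRingCat.of (DualNumber A)))).isIso_hom
  exact isIso_of_reflects_iso (kapG f a g hg) (Over.forget S)

theorem kapG_comp {A : Type u} [CommRing A] (a : B →+* A) (g : Spec (CommRingCat.of A) ⟶ S)
    (hg : g = Spec.map (CommRingCat.ofHom a) ≫ f)
    (φ : _root_.LieS.dpt A g ⟶ _root_.LieS.dpt B f) (c : DualNumber A) (hc : c * c = 0)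
    (hφ : φ.left = Spec.map (CommRingCat.ofHom
      (_root_.LieS.dualHom ((algebraMap A (DualNumber A)).comp a) c hc))) :
    kapG f a g hg ≫ φ = evMap f ((algebraMap A (DualNumber A)).comp a) c hc := by
  ext
  rw [Over.comp_left, hφ, evMap_left]
  exact Category.id_comp _

theorem kapG_proj {A : Type u} [CommRing A] (a : B →+* A) (g : Spec (CommRingCat.of A) ⟶ S)
    (hg : g = Spec.map (CommRingCat.ofHom a) ≫ f)
    (φ : _root_.LieS.dpt A g ⟶ _root_.LieS.dpt B f) (k : DualNumber B →+* A)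
    (hk : k.comp (algebraMap B (DualNumber B)) = a)
    (hφ : φ.left = Spec.map (CommRingCat.ofHom (algebraMap A (DualNumber A))) ≫
      Spec.map (CommRingCat.ofHom k)) :
    kapG f a g hg ≫ φ = evMap f ((algebraMap A (DualNumber A)).comp a)
      (algebraMap A (DualNumber A) (k DualNumber.eps))
      (by rw [← map_mul, ← map_mul, _root_.LieS.eps_sq, map_zero, map_zero]) := by
  subst hk
  apply kapG_comp
  rw [hφ, _root_.LieS.specMap_comp]
  exact congrArg (fun r => Spec.map (CommRingCat.ofHom r)) (eq_dualHom _)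

theorem dpt_hom (f : Spec (CommRingCat.of B) ⟶ S) : (_root_.LieS.dpt B f).hom =
    Spec.map (CommRingCat.ofHom (algebraMap B (DualNumber B))) ≫ f := rfl

theorem cmap_evA {A C' : Type u} [CommRing A] [CommRing C'] {h' : B →+* C'} (a : B →+* A)
    (g : DualNumber A →+* C') (hg : g.comp ((algebraMap A (DualNumber A)).comp a) = h')
    (c : DualNumber A) (hc : c * c = 0) (c' : C') (hc' : c' * c' = 0) (e : g c = c')
    (v : _root_.LieS.Lie G B f) :
    cmap f g hg ≫ ev f ((algebraMap A (DualNumber A)).comp a) c hc v = ev f h' c' hc' v :=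
  cmap_ev g hg c hc c' hc' e v

theorem cmap_ev₂ {C' : Type u} [CommRing C'] {h' : B →+* C'} (g : _root_.LieS.D2 B →+* C')
    (hg : g.comp (_root_.LieS.toD2 B) = h') (c : _root_.LieS.D2 B) (hc : c * c = 0) (c' : C')
    (hc' : c' * c' = 0) (e : g c = c') (v : _root_.LieS.Lie G B f) :
    cmap f (C := _root_.LieS.D2 B) (h := _root_.LieS.toD2 B) g hg ≫
      ev f (C := _root_.LieS.D2 B) (_root_.LieS.toD2 B) c hc v = ev f h' c' hc' v :=
  cmap_evA (A := DualNumber B) (algebraMap B (DualNumber B)) g hg c hc c' hc' e v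

variable (f) in
/-- The identification of `Spec B[ε][ε']` with `I_T ×_T I'_T`. -/
def kap : P (C := _root_.LieS.D2 B) f (_root_.LieS.toD2 B) ⟶ _root_.LieS.d2pt B f :=
  kapG f (algebraMap B (DualNumber B)) (_root_.LieS.dpt B f).hom (dpt_hom f)

instance kap_isIso : IsIso (kap f) :=
  kapG_isIso (algebraMap B (DualNumber B)) (_root_.LieS.dpt B f).hom (dpt_hom f)

theorem kap_mulMap : kap f ≫ _root_.LieS.mulMap B f =
    evMap f (C := _root_.LieS.D2 B) (_root_.LieS.toD2 B) (e₁ B * e₂ B)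
      (mul_sq (C := _root_.LieS.D2 B) (e₁_sq B)) :=
  kapG_comp _ _ (dpt_hom f) _ _ _ rfl

theorem kap_dptMap : kap f ≫ _root_.LieS.dptMap f (algebraMap B (DualNumber B)) =
    evMap f (C := _root_.LieS.D2 B) (_root_.LieS.toD2 B) (e₂ B) (e₂_sq B) :=
  kapG_comp _ _ (dpt_hom f) _ _ _ rfl

theorem kap_proj : kap f ≫ _root_.LieS.proj (DualNumber B) (_root_.LieS.dpt B f).hom =
    evMap f (C := _root_.LieS.D2 B) (_root_.LieS.toD2 B) (e₁ B) (e₁_sq B) :=
  kapG_proj _ _ (dpt_hom f) _ (RingHom.id (DualNumber B)) (RingHom.id_comp _) (by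
    rw [CommRingCat.ofHom_id]
    exact (congrArg (_ ≫ ·) (Spec.map_id _)).symm |>.trans rfl |> fun h =>
      (Category.comp_id _).symm.trans h)

/-- The bracket relation in terms of evaluations. -/
theorem isBracket_iff (x y z : _root_.LieS.Lie G B f) :
    _root_.LieS.IsBracket G B f x y z ↔
      ev f (C := _root_.LieS.D2 B) (_root_.LieS.toD2 B) (e₁ B * e₂ B)
          (mul_sq (C := _root_.LieS.D2 B) (e₁_sq B)) z =
        ev f _ (e₂ B) (e₂_sq B) x * ev f _ (e₁ B) (e₁_sq B) y *
          (ev f _ (e₂ B) (e₂_sq B) x)⁻¹ * (ev f _ (e₁ B) (e₁_sq B) y)⁻¹ := by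
  have hA : kap f ≫ (_root_.LieS.mulMap B f ≫ z.1) =
      ev f (C := _root_.LieS.D2 B) (_root_.LieS.toD2 B) (e₁ B * e₂ B)
          (mul_sq (C := _root_.LieS.D2 B) (e₁_sq B)) z :=
    (Category.assoc _ _ _).symm.trans (congrArg (· ≫ z.1) kap_mulMap)
  have hX : kap f ≫ (_root_.LieS.dptMap f (algebraMap B (DualNumber B)) ≫ x.1) =
      ev f (C := _root_.LieS.D2 B) (_root_.LieS.toD2 B) (e₂ B) (e₂_sq B) x :=
    (Category.assoc _ _ _).symm.trans (congrArg (· ≫ x.1) kap_dptMap)
  have hY : kap f ≫ (_root_.LieS.proj (DualNumber B) (_root_.LieS.dpt B f).hom ≫ y.1) =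
      ev f (C := _root_.LieS.D2 B) (_root_.LieS.toD2 B) (e₁ B) (e₁_sq B) y :=
    (Category.assoc _ _ _).symm.trans (congrArg (· ≫ y.1) kap_proj)
  unfold _root_.LieS.IsBracket
  rw [← hA, ← hX, ← hY]
  simp only [← GrpObj.comp_inv, ← MonObj.comp_mul]
  exact (cancel_epi (kap f)).symm

theorem ev_injective {C : Type u} [CommRing C] (h : B →+* C) (c : C) (hc : c * c = 0)
    (aug : C →+* B) (haug : aug.comp h = RingHom.id B) (hc0 : aug c = 0)
    (hann : ∀ b, h b * c = 0 → b = 0) :
    Function.Injective (ev f h c hc : _root_.LieS.Lie G B f → _) := by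
  have hinj : Function.Injective (_root_.LieS.dualHom h c hc) := by
    rw [injective_iff_map_eq_zero]
    intro a ha
    rw [_root_.LieS.dualHom_apply] at ha
    have h1 : a.fst = 0 := by
      simpa [hc0, ← RingHom.comp_apply, haug] using congrArg aug ha
    rw [h1, map_zero, zero_add] at ha
    ext
    · exact h1
    · exact hann _ ha
  have hsurj : Function.Surjective (PrimeSpectrum.comap (_root_.LieS.dualHom h c hc)) := by
    refine surjective_comap_of_comp _ aug ?_
    have : aug.comp (_root_.LieS.dualHom h c hc) = (TrivSqZeroExt.fstHom B B B).toRingHom :=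
      RingHom.ext fun a => by simp [hc0, ← RingHom.comp_apply, haug]
    rw [this]
    exact isHomeomorph_fstHom B
  intro v w hvw
  apply Subtype.ext
  apply Over.OverMorphism.ext
  have := epi_specMap (CommRingCat.ofHom (_root_.LieS.dualHom h c hc)) hinj hsurj
  exact (cancel_epi (Spec.map (CommRingCat.ofHom (_root_.LieS.dualHom h c hc)))).1
    (congrArg Over.Hom.left hvw)

theorem ev_mul_injective : Function.Injective (ev f (C := _root_.LieS.D2 B) (_root_.LieS.toD2 B)
    (e₁ B * e₂ B) (mul_sq (C := _root_.LieS.D2 B) (e₁_sq B)) : _root_.LieS.Lie G B f → _) :=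
  ev_injective (C := _root_.LieS.D2 B) _ _ _ (aug₂ B) (aug₂_comp B) (aug₂_e₁₂ B)
    (eq_zero_of_mul_e₁₂ B)

theorem bracket_unique (x y z z' : _root_.LieS.Lie G B f) (h : _root_.LieS.IsBracket G B f x y z)
    (h' : _root_.LieS.IsBracket G B f x y z') : z = z' :=
  ev_mul_injective (((isBracket_iff x y z).1 h).trans ((isBracket_iff x y z').1 h').symm)

theorem exists_bracket (x y : _root_.LieS.Lie G B f) :
    ∃ z, _root_.LieS.IsBracket G B f x y z := by
  simp only [isBracket_iff]
  generalize hu : ev f _ (e₂ B) (e₂_sq B) x * ev f _ (e₁ B) (e₁_sq B) y *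
    (ev f _ (e₂ B) (e₂_sq B) x)⁻¹ * (ev f _ (e₁ B) (e₁_sq B) y)⁻¹ = u
  have hres : ∀ {C : Type u} [CommRing C] (g : _root_.LieS.D2 B →+* C) (h : B →+* C)
      (hg : g.comp (_root_.LieS.toD2 B) = h), g (e₁ B) = 0 ∨ g (e₂ B) = 0 →
      cmap f g hg ≫ u = 1 := by
    intro C _ g h hg h0
    have h1 : g (e₁ B) * g (e₁ B) = 0 := by rw [← map_mul, e₁_sq, map_zero]
    have h2 : g (e₂ B) * g (e₂ B) = 0 := by rw [← map_mul, e₂_sq, map_zero]
    simp only [← hu, MonObj.comp_mul, GrpObj.comp_inv,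
      cmap_ev₂ g hg _ _ _ h1 rfl, cmap_ev₂ g hg _ _ _ h2 rfl]
    rcases h0 with e | e <;> simp [ev_eq_one h _ _ e]
  let cst := (algebraMap B (DualNumber B)).comp (aug₂ B)
  have hcomp : ((keep₁ B).prod (keep₂ B)).comp (_root_.LieS.mulHom B) =
      (cst.prod cst).comp (_root_.LieS.mulHom B) := RingHom.ext fun a => by
    simp [cst, keep₁, keep₂, aug₂, mulHom_apply, e₁, e₂, TrivSqZeroExt.algebraMap_eq_inl']
  have hc₁ : cmap f (keep₁ B) (keep₁_comp B) ≫ u = cmap f cst (const_comp B) ≫ u := by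
    rw [hres _ _ _ (Or.inr (by simp [keep₁, e₂])),
      hres _ _ _ (Or.inr (by simp [cst, aug₂, e₂]))]
  have hc₂ : cmap f (keep₂ B) (keep₂_comp B) ≫ u = cmap f cst (const_comp B) ≫ u := by
    rw [hres _ _ _ (Or.inl (by simp [keep₂, e₁, TrivSqZeroExt.algebraMap_eq_inl'])),
      hres _ _ _ (Or.inr (by simp [cst, aug₂, e₂]))]
  have hπ : Spec.map (CommRingCat.ofHom ((keep₁ B).prod (keep₂ B))) ≫ u.left =
      Spec.map (CommRingCat.ofHom (cst.prod cst)) ≫ u.left := by
    apply ext_prod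
    · rw [← Category.assoc, ← Category.assoc, _root_.LieS.specMap_comp,
        _root_.LieS.specMap_comp]
      exact congrArg Over.Hom.left hc₁
    · rw [← Category.assoc, ← Category.assoc, _root_.LieS.specMap_comp,
        _root_.LieS.specMap_comp]
      exact congrArg Over.Hom.left hc₂
  have hex : ∀ a, (keep₁ B).prod (keep₂ B) a = cst.prod cst a →
      a ∈ (_root_.LieS.mulHom B).range := by
    intro a ha
    have h1 : a.fst.snd = 0 := by
      simpa [cst, keep₁, keep₂, aug₂, TrivSqZeroExt.algebraMap_eq_inl'] using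
        congrArg (fun z => z.1.snd) ha
    have h2 : a.snd.fst = 0 := by
      simpa [cst, keep₁, keep₂, aug₂, TrivSqZeroExt.algebraMap_eq_inl'] using
        congrArg (fun z => z.2.snd) ha
    refine ⟨TrivSqZeroExt.inl a.fst.fst + TrivSqZeroExt.inr a.snd.snd, ?_⟩
    ext <;> simp [mulHom_apply, e₁, e₂, TrivSqZeroExt.algebraMap_eq_inl', h1, h2]
  obtain ⟨z, hz⟩ := exists_desc (_root_.LieS.mulHom B) _ _ (mulHom_injective B)
    (isHomeomorph_mulHom B) hcomp hex u.left hπ
  have hzS : z ≫ G.hom = Spec.map (CommRingCat.ofHom (algebraMap B (DualNumber B))) ≫ f := by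
    have := epi_specMap (CommRingCat.ofHom (R := DualNumber B) (S := _root_.LieS.D2 B)
      (_root_.LieS.mulHom B)) (mulHom_injective B) (isHomeomorph_mulHom B).surjective
    refine (cancel_epi (Spec.map (CommRingCat.ofHom (R := DualNumber B) (S := _root_.LieS.D2 B)
      (_root_.LieS.mulHom B)))).1 ?_
    rw [← Category.assoc, ← Category.assoc, hz, _root_.LieS.specMap_comp,
      _root_.LieS.mulHom_comp_algebraMap]
    exact Over.w u
  let zo : _root_.LieS.dpt B f ⟶ G := Over.homMk z (hzS.trans (dpt_hom f).symm)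
  have hzu : evMap f (C := _root_.LieS.D2 B) (_root_.LieS.toD2 B) (e₁ B * e₂ B) (mul_sq (C := _root_.LieS.D2 B) (e₁_sq B)) ≫ zo = u := by
    ext
    exact hz
  refine ⟨⟨zo, ?_⟩, hzu⟩
  rw [_root_.LieS.mem_Lie_iff]
  have h0 := hres (aug₂ B) _ (aug₂_comp B) (Or.inr (by simp [aug₂, e₂]))
  rw [← hzu, ← Category.assoc, cmap_evMap f _ _ _ _ 0 (mul_zero 0) (by simp [aug₂, e₁, e₂]),
    evMap_zero] at h0
  have : IsIso (_root_.LieS.ptMap f (RingHom.id B)) := by
    have : IsIso ((Over.forget S).map (_root_.LieS.ptMap f (RingHom.id B))) := by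
      change IsIso (Spec.map (CommRingCat.ofHom (RingHom.id B)))
      rw [CommRingCat.ofHom_id]
      infer_instance
    exact isIso_of_reflects_iso _ (Over.forget S)
  rw [← cancel_epi (_root_.LieS.ptMap f (RingHom.id B)), MonObj.comp_one, ← Category.assoc]
  exact h0

/-- The bracket. -/
def br (x y : _root_.LieS.Lie G B f) : _root_.LieS.Lie G B f := (exists_bracket x y).choose

theorem isBracket_br (x y : _root_.LieS.Lie G B f) :
    _root_.LieS.IsBracket G B f x y (br x y) := (exists_bracket x y).choose_spec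

/-- Commutators of evaluations are evaluations of the bracket. -/
theorem ev_br {C : Type u} [CommRing C] (h : B →+* C) (c d cd : C) (hc : c * c = 0)
    (hd : d * d = 0) (hcd : cd * cd = 0) (e : c * d = cd) (x y : _root_.LieS.Lie G B f) :
    ev f h c hc x * ev f h d hd y =
      ev f h cd hcd (br x y) * ev f h d hd y * ev f h c hc x := by
  let g := _root_.LieS.dualHom (_root_.LieS.dualHom h d hd) c hc
  have hg : g.comp (_root_.LieS.toD2 B) = h := RingHom.ext fun b => by
    simp [g, TrivSqZeroExt.algebraMap_eq_inl']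
  have g1 : g (e₁ B) = d := by simp [g, e₁, TrivSqZeroExt.algebraMap_eq_inl']
  have g2 : g (e₂ B) = c := by simp [g, e₂]
  have := congrArg (cmap f g hg ≫ ·) ((isBracket_iff x y _).1 (isBracket_br x y))
  simp only [MonObj.comp_mul, GrpObj.comp_inv] at this
  rw [cmap_ev₂ g hg _ _ cd hcd (by rw [map_mul, g1, g2, ← e, mul_comm]),
    cmap_ev₂ g hg _ _ c hc g2, cmap_ev₂ g hg _ _ d hd g1] at this
  rw [this]
  group

theorem br_eq_of {x y z : _root_.LieS.Lie G B f}
    (h : ev f (C := _root_.LieS.D2 B) (_root_.LieS.toD2 B) (e₂ B) (e₂_sq B) x * ev f _ (e₁ B) (e₁_sq B) y =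
      ev f _ (e₁ B * e₂ B) (mul_sq (C := _root_.LieS.D2 B) (e₁_sq B)) z * ev f _ (e₁ B) (e₁_sq B) y *
        ev f _ (e₂ B) (e₂_sq B) x) : br x y = z := by
  refine bracket_unique x y _ _ (isBracket_br x y) ((isBracket_iff x y z).2 ?_)
  rw [h]
  group

theorem br_mul_left (x x' y : _root_.LieS.Lie G B f) : br (x * x') y = br x y * br x' y := by
  apply br_eq_of
  simp only [map_mul]
  have hc := e₂_sq B
  have hd := e₁_sq B
  have hcd : e₁ B * e₂ B * (e₁ B * e₂ B) = 0 :=
    mul_sq (C := _root_.LieS.D2 B) hd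
  have h1 := ev_br (C := _root_.LieS.D2 B) (_root_.LieS.toD2 B) _ _ _ hc hd hcd (e₂_mul_e₁ B) x y
  have h2 := ev_br (C := _root_.LieS.D2 B) (_root_.LieS.toD2 B) _ _ _ hc hd hcd (e₂_mul_e₁ B) x' y
  have h3 : Commute (ev f (C := _root_.LieS.D2 B) (_root_.LieS.toD2 B) (e₂ B) hc x)
      (ev f _ (e₁ B * e₂ B) hcd (br x' y)) :=
    ev_commute _ _ _ _ _ (e₂_mul_e₁₂ B) _ _
  have h4 : Commute (ev f (C := _root_.LieS.D2 B) (_root_.LieS.toD2 B) (e₁ B * e₂ B) hcd (br x' y))
      (ev f _ (e₁ B * e₂ B) hcd (br x y)) := ev_commute _ _ _ _ _ hcd _ _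
  set X := ev f (C := _root_.LieS.D2 B) (_root_.LieS.toD2 B) (e₂ B) hc x
  set X' := ev f (C := _root_.LieS.D2 B) (_root_.LieS.toD2 B) (e₂ B) hc x'
  set Y := ev f (C := _root_.LieS.D2 B) (_root_.LieS.toD2 B) (e₁ B) hd y
  set U := ev f (C := _root_.LieS.D2 B) (_root_.LieS.toD2 B) (e₁ B * e₂ B) hcd (br x y)
  set U' := ev f (C := _root_.LieS.D2 B) (_root_.LieS.toD2 B) (e₁ B * e₂ B) hcd (br x' y)
  calc X * X' * Y = X * (U' * Y * X') := by rw [_root_.mul_assoc, h2]
    _ = U' * (X * Y) * X' := by rw [← _root_.mul_assoc, ← _root_.mul_assoc, h3.eq]; group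
    _ = U * U' * Y * (X * X') := by rw [h1, ← h4.eq]; group

theorem br_smul_left (b : B) (x y : _root_.LieS.Lie G B f) : br (b • x) y = b • br x y := by
  apply br_eq_of
  rw [ev_smul, ev_smul]
  exact ev_br _ _ _ _ _ _ _ (by ring) x y

theorem br_smul_right (b : B) (x y : _root_.LieS.Lie G B f) : br x (b • y) = b • br x y := by
  apply br_eq_of
  rw [ev_smul, ev_smul]
  exact ev_br _ _ _ _ _ _ _ (by ring) x y

/-- A point whose two restrictions agree is invariant under every endomorphism of the ring fixing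
the equalizer of the restrictions. -/
theorem invariant_of_restrict {C D : Type u} [CommRing C] [CommRing D] (h : B →+* C)
    (k : B →+* D) (r r' : C →+* D) (hr : r.comp h = k) (hr' : r'.comp h = k) (σ : C →+* C)
    (hσh : σ.comp h = h) (hσ : ∀ a, r a = r' a → σ a = a) (aug : C →+* B)
    (haug : aug.comp h = RingHom.id B) (hnil : ∀ a, aug a = 0 → IsNilpotent a)
    (u : P f h ⟶ G) (hu : cmap f r hr ≫ u = cmap f r' hr' ≫ u) : cmap f σ hσh ≫ u = u := by
  let E : Subring C := r.eqLocus r'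
  have hσE : σ.comp E.subtype = E.subtype := RingHom.ext fun a => hσ a.1 a.2
  have hhom : IsHomeomorph (PrimeSpectrum.comap E.subtype) := by
    refine isHomeomorph_of_comp _ aug
      (isHomeomorph_of_surjective _ (fun b => ⟨h b, RingHom.congr_fun haug b⟩) hnil)
      (isHomeomorph_of_surjective _ (fun b => ⟨⟨h b, ?_⟩, RingHom.congr_fun haug b⟩) fun a ha => ?_)
    · show r (h b) = r' (h b)
      rw [← RingHom.comp_apply, hr, ← RingHom.comp_apply, hr']
    · obtain ⟨n, hn⟩ := hnil a.1 ha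
      exact ⟨n, Subtype.ext hn⟩
  obtain ⟨z, hz⟩ := exists_desc E.subtype r r' Subtype.coe_injective hhom
    (RingHom.ext fun a => a.2) (fun c hc => ⟨⟨c, hc⟩, rfl⟩) u.left
    (congrArg Over.Hom.left hu)
  ext
  change Spec.map _ ≫ u.left = u.left
  rw [← hz, ← Category.assoc, _root_.LieS.specMap_comp, hσE]

theorem invariant_of_restrictA {A D : Type u} [CommRing A] [CommRing D] (a : B →+* A)
    (k : B →+* D) (r r' : DualNumber A →+* D)
    (hr : r.comp ((algebraMap A (DualNumber A)).comp a) = k)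
    (hr' : r'.comp ((algebraMap A (DualNumber A)).comp a) = k) (σ : DualNumber A →+* DualNumber A)
    (hσh : σ.comp ((algebraMap A (DualNumber A)).comp a) = (algebraMap A (DualNumber A)).comp a)
    (hσ : ∀ x, r x = r' x → σ x = x) (aug : DualNumber A →+* B)
    (haug : aug.comp ((algebraMap A (DualNumber A)).comp a) = RingHom.id B)
    (hnil : ∀ x, aug x = 0 → IsNilpotent x)
    (u : P f ((algebraMap A (DualNumber A)).comp a) ⟶ G)
    (hu : cmap f r hr ≫ u = cmap f r' hr' ≫ u) : cmap f σ hσh ≫ u = u :=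
  invariant_of_restrict _ k r r' hr hr' σ hσh hσ aug haug hnil u hu

/-- The exchange of `ε` and `ε'`. -/
def swapHom (B : Type u) [CommRing B] : _root_.LieS.D2 B →+* _root_.LieS.D2 B :=
  _root_.LieS.dualHom (C := _root_.LieS.D2 B) (_root_.LieS.dualHom (C := _root_.LieS.D2 B)
    (_root_.LieS.toD2 B) (e₂ B) (e₂_sq B)) (e₁ B) (e₁_sq B)

theorem swapHom_comp (B : Type u) [CommRing B] :
    (swapHom B).comp (_root_.LieS.toD2 B) = _root_.LieS.toD2 B := RingHom.ext fun b => by
  simp [swapHom, TrivSqZeroExt.algebraMap_eq_inl']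

theorem swapHom_e₁ (B : Type u) [CommRing B] : swapHom B (e₁ B) = e₂ B := by
  simp [swapHom, e₁, TrivSqZeroExt.algebraMap_eq_inl']

theorem swapHom_e₂ (B : Type u) [CommRing B] : swapHom B (e₂ B) = e₁ B := by
  simp [swapHom, e₂]

theorem swapHom_fix (B : Type u) [CommRing B] (a : _root_.LieS.D2 B)
    (ha : keep₁ B a = keep₂ B a) : swapHom B a = a := by
  have ha' : a.fst.snd = a.snd.fst := by
    simpa [keep₁, keep₂, TrivSqZeroExt.algebraMap_eq_inl'] using congrArg TrivSqZeroExt.snd ha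
  ext <;> simp [swapHom, e₁, e₂, TrivSqZeroExt.algebraMap_eq_inl', ha']

theorem br_self (x : _root_.LieS.Lie G B f) : br x x = 1 := by
  apply br_eq_of
  rw [map_one, _root_.one_mul]
  generalize hu : ev f (C := _root_.LieS.D2 B) (_root_.LieS.toD2 B) (e₂ B) (e₂_sq B) x *
    ev f _ (e₁ B) (e₁_sq B) x = u
  have hσu : cmap f (C := _root_.LieS.D2 B) (C' := _root_.LieS.D2 B) (swapHom B) (swapHom_comp B)
      ≫ u = ev f (C := _root_.LieS.D2 B) (_root_.LieS.toD2 B) (e₁ B) (e₁_sq B) x *
      ev f _ (e₂ B) (e₂_sq B) x := by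
    rw [← hu, MonObj.comp_mul,
      cmap_ev₂ (C' := _root_.LieS.D2 B) (swapHom B) (swapHom_comp B) _ _ _ (e₁_sq B) (swapHom_e₂ B),
      cmap_ev₂ (C' := _root_.LieS.D2 B) (swapHom B) (swapHom_comp B) _ _ _ (e₂_sq B) (swapHom_e₁ B)]
  have he : cmap f (C := _root_.LieS.D2 B) (keep₁ B) (keep₁_comp B) ≫ u =
      cmap f (C := _root_.LieS.D2 B) (keep₂ B) (keep₂_comp B) ≫ u := by
    have hh := _root_.LieS.eps_sq B
    rw [← hu, MonObj.comp_mul, MonObj.comp_mul,
      cmap_ev₂ (keep₁ B) _ _ _ 0 (mul_zero 0) (by simp [keep₁, e₂]),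
      cmap_ev₂ (keep₁ B) _ _ _ DualNumber.eps hh
        (by simp [keep₁, e₁, TrivSqZeroExt.algebraMap_eq_inl']),
      cmap_ev₂ (keep₂ B) _ _ _ DualNumber.eps hh (by simp [keep₂, e₂]),
      cmap_ev₂ (keep₂ B) _ _ _ 0 (mul_zero 0)
        (by simp [keep₂, e₁, TrivSqZeroExt.algebraMap_eq_inl']),
      ev_eq_one _ _ _ rfl, _root_.one_mul, _root_.mul_one]
  rw [← hσu]
  exact (invariant_of_restrictA (A := DualNumber B) (algebraMap B (DualNumber B)) _ (keep₁ B)
    (keep₂ B) (keep₁_comp B) (keep₂_comp B) (swapHom B) (swapHom_comp B) (swapHom_fix B)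
    (aug₂ B) (aug₂_comp B) (isNilpotent_of_aug₂ B) u he).symm

theorem br_swap (x y : _root_.LieS.Lie G B f) : br x y * br y x = 1 := by
  refine ev_mul_injective ?_
  have h1 := ev_br (C := _root_.LieS.D2 B) (_root_.LieS.toD2 B) _ _ _ (e₂_sq B) (e₁_sq B) (mul_sq (C := _root_.LieS.D2 B) (e₁_sq B))
    (e₂_mul_e₁ B) x y
  have h2 := ev_br (C := _root_.LieS.D2 B) (_root_.LieS.toD2 B) _ _ _ (e₁_sq B) (e₂_sq B) (mul_sq (C := _root_.LieS.D2 B) (e₁_sq B)) rfl y x
  rw [map_mul, map_one]
  rw [_root_.mul_assoc, h2, ← _root_.mul_assoc, ← _root_.mul_assoc] at h1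
  have h3 := mul_right_cancel h1
  exact (mul_right_cancel ((_root_.one_mul _).trans h3)).symm

theorem br_mul_right (x y y' : _root_.LieS.Lie G B f) : br x (y * y') = br x y * br x y' := by
  have e : ∀ a b : _root_.LieS.Lie G B f, br a b = (br b a)⁻¹ := fun a b =>
    eq_inv_of_mul_eq_one_left (br_swap a b)
  rw [e, br_mul_left, _root_.mul_inv_rev, ← e, ← e, lie_commute]

theorem br_inv_right (x y : _root_.LieS.Lie G B f) : br x y⁻¹ = (br x y)⁻¹ := by
  have h1 : br x 1 = (1 : _root_.LieS.Lie G B f) := by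
    have h := br_mul_right x 1 1
    rw [_root_.one_mul] at h
    exact left_eq_mul.mp h
  exact eq_inv_of_mul_eq_one_right (by rw [← br_mul_right, _root_.mul_inv_cancel, h1])

theorem jacobi_aux {R₀ : Type u} [CommRing R₀] (a : B →+* R₀) (c₀ d₀ : R₀) (hc₀ : c₀ * c₀ = 0)
    (hd₀ : d₀ * d₀ = 0) (augA : R₀ →+* B) (haug : augA.comp a = RingHom.id B)
    (hcd₀ : ∀ b, a b * (c₀ * d₀) = 0 → b = 0) (x y z : _root_.LieS.Lie G B f) :
    br x (br y z) = br (br x y) z * br y (br x z) := by
  let h3 : B →+* DualNumber R₀ := (algebraMap R₀ (DualNumber R₀)).comp a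
  let c : DualNumber R₀ := algebraMap R₀ _ c₀
  let d : DualNumber R₀ := algebraMap R₀ _ d₀
  let e : DualNumber R₀ := DualNumber.eps
  have hc : c * c = 0 := by simp only [c, ← map_mul, hc₀, map_zero]
  have hd : d * d = 0 := by simp only [d, ← map_mul, hd₀, map_zero]
  have he : e * e = 0 := _root_.LieS.eps_sq _
  have hcd : c * d * (c * d) = 0 := mul_sq hc
  have hce : c * e * (c * e) = 0 := mul_sq hc
  have hde : d * e * (d * e) = 0 := mul_sq hd
  have hcde : c * d * e * (c * d * e) = 0 := mul_sq hcd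
  let X := ev f h3 c hc x
  let Y := ev f h3 d hd y
  let Z := ev f h3 e he z
  let U := ev f h3 (c * d) hcd (br x y)
  let W := ev f h3 (c * e) hce (br x z)
  let Q := ev f h3 (d * e) hde (br y z)
  let A' := ev f h3 (c * d * e) hcde (br x (br y z))
  let A := ev f h3 (c * d * e) hcde (br y (br x z))
  let A'' := ev f h3 (c * d * e) hcde (br z (br x y)⁻¹)
  have xy : X * Y = U * Y * X := ev_br h3 c d _ hc hd hcd rfl x y
  have xz : X * Z = W * Z * X := ev_br h3 c e _ hc he hce rfl x z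
  have yz : Y * Z = Q * Z * Y := ev_br h3 d e _ hd he hde rfl y z
  have xq : X * Q = A' * Q * X := ev_br h3 c _ _ hc hde hcde (_root_.mul_assoc c d e).symm x _
  have yw : Y * W = A * W * Y := ev_br h3 d _ _ hd hce hcde (by ring) y _
  have zu : Z * U⁻¹ = A'' * U⁻¹ * Z := by
    rw [show U⁻¹ = ev f h3 (c * d) hcd (br x y)⁻¹ from (map_inv _ _).symm]
    exact ev_br h3 e _ _ he hcd hcde (mul_comm e (c * d)) z _
  have hUA : Commute U A := ev_commute h3 _ _ hcd hcde (by linear_combination (d ^ 2 * e) * hc) _ _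
  have hUW : Commute U W := ev_commute h3 _ _ hcd hce (by linear_combination (d * e) * hc) _ _
  have hUQ : Commute U Q := ev_commute h3 _ _ hcd hde (by linear_combination (c * e) * hd) _ _
  have hUA'' : Commute U A'' :=
    ev_commute h3 _ _ hcd hcde (by linear_combination (d ^ 2 * e) * hc) _ _
  have hWQ : Commute W Q := ev_commute h3 _ _ hce hde (by linear_combination (c * d) * he) _ _
  have hWA'' : Commute W A'' :=
    ev_commute h3 _ _ hce hcde (by linear_combination (d * e ^ 2) * hc) _ _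
  have hQA'' : Commute Q A'' :=
    ev_commute h3 _ _ hde hcde (by linear_combination (c * e ^ 2) * hd) _ _
  have key : A' * Q = A * A'' * Q := by
    calc A' * Q = MulAut.conj X Q := by rw [MulAut.conj_apply, xq]; group
      _ = MulAut.conj X (Y * Z * Y⁻¹ * Z⁻¹) := by rw [yz]; group
      _ = MulAut.conj X Y * MulAut.conj X Z * (MulAut.conj X Y)⁻¹ * (MulAut.conj X Z)⁻¹ := by
        simp only [map_mul, map_inv]
      _ = (U * Y) * (W * Z) * (U * Y)⁻¹ * (W * Z)⁻¹ := by
        simp only [MulAut.conj_apply, xy, xz]; group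
      _ = U * (Y * W) * Z * Y⁻¹ * U⁻¹ * Z⁻¹ * W⁻¹ := by group
      _ = U * A * W * (Y * Z) * Y⁻¹ * U⁻¹ * Z⁻¹ * W⁻¹ := by rw [yw]; group
      _ = U * A * W * Q * (Z * U⁻¹) * Z⁻¹ * W⁻¹ := by rw [yz]; group
      _ = U * A * W * Q * A'' * U⁻¹ * W⁻¹ := by rw [zu]; group
      _ = A * (U * (W * Q * A'')) * U⁻¹ * W⁻¹ := by rw [hUA.eq]; group
      _ = A * (W * (Q * A'')) * W⁻¹ := by
        rw [((hUW.mul_right hUQ).mul_right hUA'').eq]; group
      _ = A * (Q * A'') := by rw [(hWQ.mul_right hWA'').eq]; group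
      _ = A * A'' * Q := by rw [hQA''.eq]; group
  have key' : A' = ev f h3 (c * d * e) hcde (br y (br x z) * br z (br x y)⁻¹) := by
    rw [map_mul]; exact mul_right_cancel key
  have hann : ∀ b, h3 b * (c * d * e) = 0 → b = 0 := fun b hb => hcd₀ b (by
    simpa [h3, c, d, e, TrivSqZeroExt.algebraMap_eq_inl', _root_.mul_assoc] using
      congrArg TrivSqZeroExt.snd hb)
  have main := ev_injective h3 _ hcde (augA.comp (TrivSqZeroExt.fstHom R₀ R₀ R₀).toRingHom)
    (RingHom.ext fun b => by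
      simpa [h3, TrivSqZeroExt.algebraMap_eq_inl'] using RingHom.congr_fun haug b)
    (by simp [e]) hann key'
  rw [main, lie_commute, br_inv_right]
  congr 1
  exact (eq_inv_of_mul_eq_one_right (br_swap z (br x y))).symm

theorem jacobi (x y z : _root_.LieS.Lie G B f) :
    br x (br y z) = br (br x y) z * br y (br x z) :=
  jacobi_aux (R₀ := _root_.LieS.D2 B) (_root_.LieS.toD2 B) (e₁ B) (e₂ B) (e₁_sq B) (e₂_sq B)
    (aug₂ B) (aug₂_comp B) (eq_zero_of_mul_e₁₂ B) x y z

/-- `Lie(G/S)(T)` is a Lie algebra over the ring of `T`. -/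
theorem exists_model : ∃ (L : Type u) (_ : LieRing L) (_ : LieAlgebra B L),
    Nonempty (_root_.LieS.Model G B f L) := by
  let cg : CommGroup (_root_.LieS.Lie G B f) :=
    { (inferInstance : Group (_root_.LieS.Lie G B f)) with mul_comm := lie_commute }
  let L := Additive (_root_.LieS.Lie G B f)
  let iM : Module B L :=
    { smul := fun b x => Additive.ofMul (b • Additive.toMul x)
      one_smul := fun x => congrArg Additive.ofMul (one_smul' (Additive.toMul x))
      mul_smul := fun b b' x => congrArg Additive.ofMul (mul_smul' b b' (Additive.toMul x))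
      smul_zero := fun b => congrArg Additive.ofMul
        (show b • (1 : _root_.LieS.Lie G B f) = 1 from
          Subtype.ext (MonObj.comp_one (_root_.LieS.scale B f b)))
      smul_add := fun b x y =>
        congrArg Additive.ofMul (smul_mul' b (Additive.toMul x) (Additive.toMul y))
      add_smul := fun b b' x => congrArg Additive.ofMul (add_smul' b b' (Additive.toMul x))
      zero_smul := fun x => congrArg Additive.ofMul (zero_smul' (Additive.toMul x)) }
  let iL : LieRing L :=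
    { bracket := fun x y => Additive.ofMul (br (Additive.toMul x) (Additive.toMul y))
      add_lie := fun x y z => congrArg Additive.ofMul (br_mul_left _ _ _)
      lie_add := fun x y z => congrArg Additive.ofMul (br_mul_right _ _ _)
      lie_self := fun x => congrArg Additive.ofMul (br_self _)
      leibniz_lie := fun x y z => congrArg Additive.ofMul (jacobi _ _ _) }
  let iA : LieAlgebra B L :=
    { iM with lie_smul := fun b x y => congrArg Additive.ofMul (br_smul_right _ _ _) }
  exact ⟨L, iL, iA, ⟨{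
    e := MulEquiv.multiplicativeAdditive _
    e_smul := fun b x => rfl
    e_lie := fun x y => isBracket_br _ _ }⟩⟩

end Main

end Groth.Agent.Lib.LieS.Bracket
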