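import Groth.Prelude.Def_LieS
import Groth.Agent.Lib.NilExt.Descend

/-!
# Evaluation of tangent points at elements of square zero

For an affine test scheme `Spec B` over `S` and a monoid scheme `G` over `S`, a point `v` of `G` with
values in the dual numbers over `B` can be evaluated at `(h, c)`, `h : B → C` a ring map and `c ∈ C`
with `c * c = 0`.  If `v` restricts to the unit along the zero section, the evaluation is additive
in `c` for elements of mutual product zero (`ev_add`), and two such commute (`ev_comm`).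
-/

universe u

set_option linter.unusedSimpArgs false

noncomputable section

open CategoryTheory MonoidalCategory CartesianMonoidalCategory MonObj AlgebraicGeometry

namespace Groth.Agent.Lib.LieS.Points

open Groth.Agent.Lib.NilExt.Descend

section Rings

variable {A B C : Type u} [CommRing A] [CommRing B] [CommRing C]

/-- A surjective ring map with nilpotent kernel elements is a homeomorphism on spectra. -/
theorem isHomeomorph_of_surjective (a : A →+* B) (hs : Function.Surjective a)
    (hn : ∀ x, a x = 0 → IsNilpotent x) : IsHomeomorph (PrimeSpectrum.comap a) :=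
  PrimeSpectrum.isHomeomorph_comap a (fun x => ⟨1, one_pos, hs _⟩)
    (fun _ hx => hn _ hx)

/-- If `a ∘ j` and `a` are homeomorphisms on spectra, so is `j`. -/
theorem isHomeomorph_of_comp (j : A →+* B) (a : B →+* C)
    (ha : IsHomeomorph (PrimeSpectrum.comap a))
    (haj : IsHomeomorph (PrimeSpectrum.comap (a.comp j))) :
    IsHomeomorph (PrimeSpectrum.comap j) := by
  have h : PrimeSpectrum.comap j = PrimeSpectrum.comap (a.comp j) ∘ ha.homeomorph.symm := by
    funext x
    rw [PrimeSpectrum.comap_comp]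
    simp only [Function.comp_apply]
    have e : PrimeSpectrum.comap a (ha.homeomorph.symm x) = x := ha.homeomorph.apply_symm_apply x
    rw [e]
  rw [h]
  exact haj.comp ha.homeomorph.symm.isHomeomorph

/-- Surjectivity on spectra from a composite. -/
theorem surjective_comap_of_comp (j : A →+* B) (a : B →+* C)
    (haj : IsHomeomorph (PrimeSpectrum.comap (a.comp j))) :
    Function.Surjective (PrimeSpectrum.comap j) := fun x => by
  obtain ⟨y, hy⟩ := haj.surjective x
  exact ⟨PrimeSpectrum.comap a y, by rw [← hy, PrimeSpectrum.comap_comp]; rfl⟩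

theorem isHomeomorph_fstHom (B : Type u) [CommRing B] :
    IsHomeomorph (PrimeSpectrum.comap (TrivSqZeroExt.fstHom B B B).toRingHom) :=
  isHomeomorph_of_surjective _ (fun b => ⟨TrivSqZeroExt.inl b, rfl⟩) (fun x (hx : x.fst = 0) =>
    ⟨2, by ext <;> simp [pow_two, hx]⟩)

/-- `B[ε, ε'] / (ε, ε')²`. -/
abbrev Univ₂ (B : Type u) [CommRing B] : Type u := TrivSqZeroExt B (B × B)

theorem isHomeomorph_fst₂ (B : Type u) [CommRing B] :
    IsHomeomorph (PrimeSpectrum.comap (TrivSqZeroExt.fstHom B B (B × B)).toRingHom) :=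
  isHomeomorph_of_surjective _ (fun b => ⟨TrivSqZeroExt.inl b, rfl⟩) (fun x (hx : x.fst = 0) =>
    ⟨2, by ext <;> simp [pow_two, hx]⟩)

/-- The homomorphism `B[ε, ε'] / (ε, ε')² → C` sending `ε ↦ c`, `ε' ↦ d`. -/
def hom₂ (h : B →+* C) (c d : C) (hc : c * c = 0) (hd : d * d = 0) (hcd : c * d = 0) :
    Univ₂ B →+* C where
  toFun x := h x.fst + h x.snd.1 * c + h x.snd.2 * d
  map_one' := by simp
  map_mul' x y := by
    simp only [TrivSqZeroExt.fst_mul, TrivSqZeroExt.snd_mul, Prod.fst_add, Prod.snd_add,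
      Prod.smul_fst, Prod.smul_snd, smul_eq_mul, op_smul_eq_mul, map_add, map_mul]
    linear_combination (-(h x.snd.1 * h y.snd.1)) * hc + (-(h x.snd.2 * h y.snd.2)) * hd
      + (-(h x.snd.1 * h y.snd.2 + h x.snd.2 * h y.snd.1)) * hcd
  map_zero' := by simp
  map_add' x y := by
    simp only [TrivSqZeroExt.fst_add, TrivSqZeroExt.snd_add, Prod.fst_add, Prod.snd_add, map_add]
    ring

@[simp] theorem hom₂_apply (h : B →+* C) (c d : C) (hc : c * c = 0) (hd : d * d = 0)
    (hcd : c * d = 0) (x : Univ₂ B) :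
    hom₂ h c d hc hd hcd x = h x.fst + h x.snd.1 * c + h x.snd.2 * d := rfl

/-- `ε ↦ ε`, `ε' ↦ 0`. -/
def res₁ (B : Type u) [CommRing B] : Univ₂ B →+* DualNumber B :=
  hom₂ (algebraMap B (DualNumber B)) DualNumber.eps 0 (_root_.LieS.eps_sq B) (mul_zero 0)
    (mul_zero _)

/-- `ε ↦ 0`, `ε' ↦ ε`. -/
def res₂ (B : Type u) [CommRing B] : Univ₂ B →+* DualNumber B :=
  hom₂ (algebraMap B (DualNumber B)) 0 DualNumber.eps (mul_zero 0) (_root_.LieS.eps_sq B)
    (zero_mul _)

theorem res₁_comp (B : Type u) [CommRing B] :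
    (res₁ B).comp (algebraMap B (Univ₂ B)) = algebraMap B (DualNumber B) :=
  RingHom.ext fun b => by simp [res₁, TrivSqZeroExt.algebraMap_eq_inl']

theorem res₂_comp (B : Type u) [CommRing B] :
    (res₂ B).comp (algebraMap B (Univ₂ B)) = algebraMap B (DualNumber B) :=
  RingHom.ext fun b => by simp [res₂, TrivSqZeroExt.algebraMap_eq_inl']

theorem dualHom_zero (h : B →+* C) :
    _root_.LieS.dualHom h 0 (mul_zero 0) = h.comp (TrivSqZeroExt.fstHom B B B).toRingHom :=
  RingHom.ext fun x => by simp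

theorem comp_dualHom {C' : Type u} [CommRing C'] (g : C →+* C') (h : B →+* C) (c : C)
    (hc : c * c = 0) :
    g.comp (_root_.LieS.dualHom h c hc) =
      _root_.LieS.dualHom (g.comp h) (g c) (by rw [← map_mul, hc, map_zero]) :=
  RingHom.ext fun x => by simp

theorem dualHom_eps :
    _root_.LieS.dualHom (algebraMap B (DualNumber B)) DualNumber.eps (_root_.LieS.eps_sq B) =
      RingHom.id (DualNumber B) :=
  RingHom.ext fun x => by
    ext <;> simp [TrivSqZeroExt.algebraMap_eq_inl']

/-- A ring map out of the dual numbers is the evaluation at the image of `ε`. -/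
theorem eq_dualHom (g : DualNumber B →+* C) :
    g = _root_.LieS.dualHom (g.comp (algebraMap B (DualNumber B))) (g DualNumber.eps)
      (by rw [← map_mul, _root_.LieS.eps_sq, map_zero]) :=
  calc g = g.comp (RingHom.id _) := (RingHom.comp_id g).symm
    _ = _ := by rw [← dualHom_eps, comp_dualHom]

end Rings

section Points

variable {S : Scheme.{u}} {B : Type u} [CommRing B] (f : Spec (CommRingCat.of B) ⟶ S)
variable {C C' : Type u} [CommRing C] [CommRing C']

/-- `Spec C` as an `S`-scheme through `h : B → C`. -/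
abbrev P (h : B →+* C) : Over S := _root_.LieS.pt C (Spec.map (CommRingCat.ofHom h) ≫ f)

/-- The morphism of `S`-schemes given by a map of `B`-rings. -/
def cmap {h : B →+* C} {h' : B →+* C'} (g : C →+* C') (hg : g.comp h = h') : P f h' ⟶ P f h :=
  Over.homMk (Spec.map (CommRingCat.ofHom g)) (by
    subst hg
    change Spec.map _ ≫ Spec.map _ ≫ f = _
    rw [← Category.assoc, _root_.LieS.specMap_comp]
    rfl)

@[simp] theorem cmap_left {h : B →+* C} {h' : B →+* C'} (g : C →+* C') (hg : g.comp h = h') :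
    (cmap f g hg).left = Spec.map (CommRingCat.ofHom g) := rfl

/-- The morphism `Spec C ⟶ I_T` given by `ε ↦ c`. -/
def evMap (h : B →+* C) (c : C) (hc : c * c = 0) : P f h ⟶ _root_.LieS.dpt B f :=
  Over.homMk (Spec.map (CommRingCat.ofHom (_root_.LieS.dualHom h c hc))) (by
    change Spec.map _ ≫ Spec.map _ ≫ f = Spec.map _ ≫ f
    rw [← Category.assoc, _root_.LieS.specMap_comp, _root_.LieS.dualHom_comp_algebraMap])

@[simp] theorem evMap_left (h : B →+* C) (c : C) (hc : c * c = 0) :
    (evMap f h c hc).left = Spec.map (CommRingCat.ofHom (_root_.LieS.dualHom h c hc)) := rfl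

theorem evMap_congr (h : B →+* C) {c c' : C} (hc : c * c = 0) (hc' : c' * c' = 0) (e : c = c') :
    evMap f h c hc = evMap f h c' hc' := by subst e; rfl

theorem cmap_evMap {h : B →+* C} {h' : B →+* C'} (g : C →+* C') (hg : g.comp h = h') (c : C)
    (hc : c * c = 0) (c' : C') (hc' : c' * c' = 0) (e : g c = c') :
    cmap f g hg ≫ evMap f h c hc = evMap f h' c' hc' := by
  subst hg e
  ext
  change Spec.map _ ≫ Spec.map _ = Spec.map _
  rw [_root_.LieS.specMap_comp, comp_dualHom]

theorem cmap_comp {h : B →+* C} {h' : B →+* C'} {C'' : Type u} [CommRing C''] {h'' : B →+* C''}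
    (g : C →+* C') (hg : g.comp h = h') (g' : C' →+* C'') (hg' : g'.comp h' = h'') :
    cmap f g' hg' ≫ cmap f g hg = cmap f (g'.comp g) (by rw [RingHom.comp_assoc, hg, hg']) := by
  ext
  change Spec.map _ ≫ Spec.map _ = Spec.map _
  rw [_root_.LieS.specMap_comp]

theorem evMap_eps :
    evMap f (algebraMap B (DualNumber B)) DualNumber.eps (_root_.LieS.eps_sq B) =
      (𝟙 (_root_.LieS.dpt B f)) := by
  ext
  change Spec.map _ = 𝟙 _
  rw [dualHom_eps, CommRingCat.ofHom_id]
  exact Spec.map_id _

theorem evMap_zero (h : B →+* C) :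
    evMap f h 0 (mul_zero 0) = _root_.LieS.ptMap f h ≫ _root_.LieS.zeroSec B f := by
  ext
  change Spec.map _ = Spec.map _ ≫ Spec.map _
  rw [_root_.LieS.specMap_comp, dualHom_zero]

/-- A jointly injective pair of maps out of `C` which is surjective on spectra detects equality. -/
theorem ext₂ {G : Over S} {h : B →+* C} {D D' : Type u} [CommRing D] [CommRing D'] {k : B →+* D}
    {k' : B →+* D'} (r : C →+* D) (hr : r.comp h = k) (r' : C →+* D') (hr' : r'.comp h = k')
    (hinj : Function.Injective (r.prod r'))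
    (hsurj : Function.Surjective (PrimeSpectrum.comap (r.prod r')))
    {u v : P f h ⟶ G} (e : cmap f r hr ≫ u = cmap f r hr ≫ v)
    (e' : cmap f r' hr' ≫ u = cmap f r' hr' ≫ v) : u = v := by
  have := epi_specMap (CommRingCat.ofHom (r.prod r')) hinj hsurj
  apply Over.OverMorphism.ext
  rw [← cancel_epi (Spec.map (CommRingCat.ofHom (r.prod r')))]
  apply ext_prod
  · have h1 := congrArg Over.Hom.left e
    simp only [Over.comp_left, cmap_left] at h1
    rw [← Category.assoc, ← Category.assoc, _root_.LieS.specMap_comp]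
    exact h1
  · have h1 := congrArg Over.Hom.left e'
    simp only [Over.comp_left, cmap_left] at h1
    rw [← Category.assoc, ← Category.assoc, _root_.LieS.specMap_comp]
    exact h1

variable {G : Over S} [MonObj G] {f}

theorem ev_zero {v : _root_.LieS.dpt B f ⟶ G} (hv : _root_.LieS.zeroSec B f ≫ v = 1)
    (h : B →+* C) (c : C) (hc : c * c = 0) (e : c = 0) : evMap f h c hc ≫ v = 1 := by
  rw [evMap_congr f h hc (mul_zero 0) e, evMap_zero, Category.assoc, hv, MonObj.comp_one]

omit [MonObj G] in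
private theorem univ_ext {u v : P f (algebraMap B (Univ₂ B)) ⟶ G}
    (e : cmap f (res₁ B) (res₁_comp B) ≫ u = cmap f (res₁ B) (res₁_comp B) ≫ v)
    (e' : cmap f (res₂ B) (res₂_comp B) ≫ u = cmap f (res₂ B) (res₂_comp B) ≫ v) :
    u = v := by
  refine ext₂ f (res₁ B) (res₁_comp B) (res₂ B) (res₂_comp B) ?_ ?_ e e'
  · intro x y hxy
    have h1 := congrArg (fun z => TrivSqZeroExt.fst z.1) hxy
    have h2 := congrArg (fun z => TrivSqZeroExt.snd z.1) hxy
    have h3 := congrArg (fun z => TrivSqZeroExt.snd z.2) hxy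
    simp [res₁, res₂, TrivSqZeroExt.algebraMap_eq_inl'] at h1 h2 h3
    ext <;> assumption
  · refine surjective_comap_of_comp _
      ((TrivSqZeroExt.fstHom B B B).toRingHom.comp (RingHom.fst _ _)) ?_
    have : ((TrivSqZeroExt.fstHom B B B).toRingHom.comp (RingHom.fst _ _)).comp
        ((res₁ B).prod (res₂ B)) = (TrivSqZeroExt.fstHom B B (B × B)).toRingHom :=
      RingHom.ext fun x => by simp [res₁, res₂, TrivSqZeroExt.algebraMap_eq_inl']
    rw [this]
    exact isHomeomorph_fst₂ B

private theorem eps₁_sq :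
    (TrivSqZeroExt.inr (1, 0) : Univ₂ B) * TrivSqZeroExt.inr (1, 0) = 0 :=
  TrivSqZeroExt.inr_mul_inr _ _ _

private theorem eps₂_sq :
    (TrivSqZeroExt.inr (0, 1) : Univ₂ B) * TrivSqZeroExt.inr (0, 1) = 0 :=
  TrivSqZeroExt.inr_mul_inr _ _ _

/-- Additivity of evaluation. -/
theorem ev_add {v : _root_.LieS.dpt B f ⟶ G} (hv : _root_.LieS.zeroSec B f ≫ v = 1)
    (h : B →+* C) (c d : C) (hc : c * c = 0) (hd : d * d = 0) (hcd : c * d = 0)
    (hs : (c + d) * (c + d) = 0) :
    evMap f h (c + d) hs ≫ v = (evMap f h c hc ≫ v) * (evMap f h d hd ≫ v) := by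
  have key : evMap f (algebraMap B (Univ₂ B)) (TrivSqZeroExt.inr (1, 1))
      (TrivSqZeroExt.inr_mul_inr _ _ _) ≫ v =
      (evMap f _ _ eps₁_sq ≫ v) * (evMap f _ _ eps₂_sq ≫ v) := by
    apply univ_ext
    · rw [MonObj.comp_mul, ← Category.assoc, ← Category.assoc, ← Category.assoc,
        cmap_evMap f _ _ _ _ DualNumber.eps (_root_.LieS.eps_sq B) (by simp [res₁, res₂]),
        cmap_evMap f _ _ _ _ DualNumber.eps (_root_.LieS.eps_sq B) (by simp [res₁, res₂]),
        cmap_evMap f _ _ _ _ (0 : DualNumber B) (mul_zero 0) (by simp [res₁, res₂]),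
        ev_zero hv _ _ _ rfl, _root_.mul_one]
    · rw [MonObj.comp_mul, ← Category.assoc, ← Category.assoc, ← Category.assoc,
        cmap_evMap f _ _ _ _ DualNumber.eps (_root_.LieS.eps_sq B) (by simp [res₁, res₂]),
        cmap_evMap f _ _ _ _ (0 : DualNumber B) (mul_zero 0) (by simp [res₁, res₂]),
        cmap_evMap f _ _ _ _ DualNumber.eps (_root_.LieS.eps_sq B) (by simp [res₁, res₂]),
        ev_zero hv _ _ _ rfl, _root_.one_mul]
  have hg : (hom₂ h c d hc hd hcd).comp (algebraMap B (Univ₂ B)) = h :=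
    RingHom.ext fun b => by simp [TrivSqZeroExt.algebraMap_eq_inl']
  have := congrArg (cmap f (hom₂ h c d hc hd hcd) hg ≫ ·) key
  simp only [MonObj.comp_mul, ← Category.assoc] at this
  rwa [cmap_evMap f _ _ _ _ (c + d) hs (by simp), cmap_evMap f _ _ _ _ c hc (by simp [res₁, res₂]),
    cmap_evMap f _ _ _ _ d hd (by simp)] at this

/-- Evaluations at elements of product zero commute. -/
theorem ev_comm {v w : _root_.LieS.dpt B f ⟶ G} (hv : _root_.LieS.zeroSec B f ≫ v = 1)
    (hw : _root_.LieS.zeroSec B f ≫ w = 1)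
    (h : B →+* C) (c d : C) (hc : c * c = 0) (hd : d * d = 0) (hcd : c * d = 0) :
    (evMap f h c hc ≫ v) * (evMap f h d hd ≫ w) = (evMap f h d hd ≫ w) * (evMap f h c hc ≫ v) := by
  have key : (evMap f (algebraMap B (Univ₂ B)) _ eps₁_sq ≫ v) * (evMap f _ _ eps₂_sq ≫ w) =
      (evMap f _ _ eps₂_sq ≫ w) * (evMap f _ _ eps₁_sq ≫ v) := by
    apply univ_ext
    · rw [MonObj.comp_mul, MonObj.comp_mul, ← Category.assoc, ← Category.assoc,
        cmap_evMap f _ _ _ _ DualNumber.eps (_root_.LieS.eps_sq B) (by simp [res₁, res₂]),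
        cmap_evMap f _ _ _ _ (0 : DualNumber B) (mul_zero 0) (by simp [res₁, res₂]),
        ev_zero hw _ _ _ rfl, _root_.mul_one, _root_.one_mul]
    · rw [MonObj.comp_mul, MonObj.comp_mul, ← Category.assoc, ← Category.assoc,
        cmap_evMap f _ _ _ _ (0 : DualNumber B) (mul_zero 0) (by simp [res₁, res₂]),
        cmap_evMap f _ _ _ _ DualNumber.eps (_root_.LieS.eps_sq B) (by simp [res₁, res₂]),
        ev_zero hv _ _ _ rfl, _root_.mul_one, _root_.one_mul]
  have hg : (hom₂ h c d hc hd hcd).comp (algebraMap B (Univ₂ B)) = h :=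
    RingHom.ext fun b => by simp [TrivSqZeroExt.algebraMap_eq_inl']
  have := congrArg (cmap f (hom₂ h c d hc hd hcd) hg ≫ ·) key
  simp only [MonObj.comp_mul, ← Category.assoc] at this
  rwa [cmap_evMap f _ _ _ _ c hc (by simp), cmap_evMap f _ _ _ _ d hd (by simp)] at this

end Points

end Groth.Agent.Lib.LieS.Points
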